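import Cfsg.Agent.SporRec.SuzCl.TClass

/-!
The involutions of the presented Suzuki group: two classes with representatives `a` and `e`; the
product of two different commuting conjugates of `a` is conjugate to `a`.
-/

set_option autoImplicit false
set_option maxRecDepth 100000

namespace Cfsg.Agent.SporRec.SuzCl

open Cfsg.Spor Cfsg.Agent.SporadicRecognition.SuzPhi Cfsg.Agent.SporadicRecognition.SuzOrder

/-- the involutions `a` and `e` -/
noncomputable def ia : Suz := PresentedGroup.of Suz.Gen.a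
noncomputable def ie : Suz := PresentedGroup.of Suz.Gen.e

theorem R_a : R tA ia := R_gen Suz.Gen.a
theorem R_e : R tE ie := R_gen Suz.Gen.e

/-! ### Counting fixed points -/

noncomputable def cntP (f : ℕ → Bool) (d : ℕ) : ℕ → ℕ :=
  Nat.rec (motive := fun _ => ℕ → ℕ) (fun s => Bool.rec 0 1 (f s))
    (fun k ih s => Nat.add (ih s) (ih (Nat.add s (Nat.pow 2 k)))) d

theorem cntP_eq (f : ℕ → Bool) (d : ℕ) : ∀ s,
    cntP f d s = ((Finset.Ico s (s + 2 ^ d)).filter (fun i => f i = true)).card := by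
  induction d with
  | zero =>
    intro s
    show (Bool.rec 0 1 (f s) : ℕ) = _
    have h1 : Finset.Ico s (s + 2 ^ 0) = {s} := by
      ext x; simp only [pow_zero, Finset.mem_Ico, Finset.mem_singleton]; omega
    rw [h1]
    cases h : f s
    · rw [Finset.filter_singleton, if_neg (by rw [h]; decide)]; rfl
    · rw [Finset.filter_singleton, if_pos h]; rfl
  | succ d ih =>
    intro s
    show cntP f d s + cntP f d (s + 2 ^ d) = _
    rw [ih, ih, ← Finset.card_union_of_disjoint, ← Finset.filter_union]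
    · have h1 : s ≤ s + 2 ^ d := Nat.le_add_right _ _
      have h2 : s + 2 ^ d ≤ s + 2 ^ d + 2 ^ d := Nat.le_add_right _ _
      rw [Finset.Ico_union_Ico_eq_Ico h1 h2, pow_succ]
      congr 3; ring
    · rw [Finset.disjoint_left]
      intro x hx hx'
      rw [Finset.mem_filter, Finset.mem_Ico] at hx hx'
      omega

/-- fixed points -/
noncomputable def Fx (x : Suz) : Finset ℕ := (Finset.range 1782).filter (fun p => φ x p = p)

noncomputable def cntF (t : ℕ) : ℕ := cntP (fun i => and (Nat.ble i 1781) (Nat.beq (app t i) i)) 11 0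

theorem card_Fx {t : ℕ} {x : Suz} (h : R t x) : (Fx x).card = cntF t := by
  unfold cntF
  rw [cntP_eq]
  congr 1
  ext p
  unfold Fx
  rw [Finset.mem_filter, Finset.mem_range, Finset.mem_filter, Finset.mem_Ico, Bool.and_eq_true,
    Nat.beq_eq]
  constructor
  · rintro ⟨h1, h2⟩
    refine ⟨⟨Nat.zero_le _, by norm_num; omega⟩, Nat.ble_eq_true_of_le (by omega), ?_⟩
    rw [← (h p h1).1]; exact h2
  · rintro ⟨-, h1, h2⟩
    have h3 := Nat.le_of_ble_eq_true h1
    refine ⟨by omega, ?_⟩
    rw [(h p (by omega)).1]; exact h2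

theorem φ_lt (w : Suz) (p : ℕ) : φ w p < 1782 ↔ p < 1782 := by
  have hw : w ∈ Subgroup.closure (Set.range (PresentedGroup.of (rels := _) : Suz.Gen → Suz)) := by
    rw [PresentedGroup.closure_range_of]; trivial
  induction hw using Subgroup.closure_induction generalizing p with
  | mem x hx =>
    obtain ⟨x, rfl⟩ := hx
    have hsq : ∀ q, φ (PresentedGroup.of x) (φ (PresentedGroup.of x) q) = q := by
      intro q
      rw [φ_of, ← Equiv.Perm.mul_apply, gp_sq]; rfl
    constructor
    · intro h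
      have := (R_gen x _ h)
      rw [← this.1, hsq] at this
      exact this.2
    · intro h
      have := (R_gen x _ h)
      rw [this.1]; exact this.2
  | one => rw [map_one]; rfl
  | mul a b _ _ ha hb =>
    rw [map_mul, Equiv.Perm.mul_apply]
    exact (ha _).trans (hb p)
  | inv a _ ha =>
    have := ha (φ a⁻¹ p)
    rw [← Equiv.Perm.mul_apply, ← map_mul, mul_inv_cancel, map_one] at this
    exact this.symm

theorem card_Fx_conj (w x : Suz) : (Fx (w * x * w⁻¹)).card = (Fx x).card := by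
  symm
  apply Finset.card_bij (fun p _ => φ w p)
  · intro p hp
    unfold Fx at hp ⊢
    rw [Finset.mem_filter, Finset.mem_range] at hp ⊢
    refine ⟨(φ_lt w p).2 hp.1, ?_⟩
    rw [← Equiv.Perm.mul_apply, ← map_mul, inv_mul_cancel_right, map_mul, Equiv.Perm.mul_apply, hp.2]
  · intro p _ q _ h
    exact (φ w).injective h
  · intro q hq
    unfold Fx at hq
    rw [Finset.mem_filter, Finset.mem_range] at hq
    refine ⟨φ w⁻¹ q, ?_, ?_⟩
    · unfold Fx
      rw [Finset.mem_filter, Finset.mem_range]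
      refine ⟨(φ_lt _ q).2 hq.1, ?_⟩
      have h1 : φ (w * x * w⁻¹) q = φ w (φ x (φ w⁻¹ q)) := by
        rw [map_mul, map_mul, Equiv.Perm.mul_apply, Equiv.Perm.mul_apply]
      rw [h1] at hq
      have h2 : φ w (φ w⁻¹ q) = q := by
        rw [← Equiv.Perm.mul_apply, ← map_mul, mul_inv_cancel, map_one]; rfl
      apply (φ w).injective
      rw [hq.2, h2]
    · rw [← Equiv.Perm.mul_apply, ← map_mul, mul_inv_cancel, map_one]; rfl

theorem cntF_a : cntF tA = 54 := by decide +kernel
theorem cntF_e : cntF tE = 42 := by decide +kernel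

/-- `a` and `e` are not conjugate. -/
theorem not_conj (w : Suz) : w * ia * w⁻¹ ≠ ie := by
  intro h
  have h1 := card_Fx_conj w ia
  rw [h, card_Fx R_e, card_Fx R_a, cntF_a, cntF_e] at h1
  omega

/-! ### Sylow 2-subgroups -/

theorem factorization_card : (Nat.card Suz).factorization 2 = 13 := by
  rw [card_Suz]
  have h : 448345497600 = 2 ^ 13 * 54729675 := by norm_num
  rw [h, Nat.factorization_mul (by norm_num) (by norm_num), Finsupp.add_apply,
    Nat.Prime.factorization_pow Nat.prime_two, Finsupp.single_eq_same,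
    Nat.factorization_eq_zero_of_not_dvd (by norm_num)]

/-- `T` as a Sylow subgroup -/
noncomputable def TS : Sylow 2 Suz := Sylow.ofCard T (by
  rw [factorization_card, card_T]; norm_num)

theorem coe_TS : (TS : Subgroup Suz) = T := rfl

theorem conj_into {G : Type*} [Group G] [Finite G] (P : Sylow 2 G) (H : Subgroup G)
    (hPH : (P : Subgroup G) ≤ H) (y : G) (hy : y ∈ H) (hyy : y * y = 1) :
    ∃ h ∈ H, h * y * h⁻¹ ∈ (P : Subgroup G) := by
  let PH : Sylow 2 H := P.subtype hPH
  let y' : H := ⟨y, hy⟩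
  have hp : IsPGroup 2 (Subgroup.zpowers y') := by
    intro ⟨x, hx⟩
    refine ⟨1, ?_⟩
    obtain ⟨n, rfl⟩ := hx
    apply Subtype.ext
    show (y' ^ n) ^ 2 ^ 1 = 1
    have : y' * y' = 1 := Subtype.ext hyy
    rw [pow_one, ← zpow_natCast, ← zpow_mul, mul_comm, zpow_mul, zpow_natCast, sq, this, one_zpow]
  obtain ⟨Q, hQ⟩ := hp.exists_le_sylow
  obtain ⟨h, hh⟩ := MulAction.exists_smul_eq H Q PH
  refine ⟨h, h.2, ?_⟩
  have h3 : h * y' * h⁻¹ ∈ (PH : Subgroup H) := by
    rw [← hh]
    exact ⟨_, hQ (Subgroup.mem_zpowers y'), by simp [MulAut.conj_apply]⟩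
  exact h3

/-- Every involution of `Suz` is conjugate to `a` or to `e`. -/
theorem two (t : Suz) (h2 : t * t = 1) (h1 : t ≠ 1) :
    (∃ g, g * ia * g⁻¹ = t) ∨ (∃ g, g * ie * g⁻¹ = t) := by
  obtain ⟨h, -, hT⟩ := conj_into TS ⊤ le_top t (Subgroup.mem_top _) h2
  obtain ⟨k, hk, hk2⟩ := (mem_T _).1 hT
  have h3 : pr Gs k ≠ 1 := by
    rw [← hk2]
    intro h4
    apply h1
    calc t = h⁻¹ * (h * t * h⁻¹) * h := by group
      _ = 1 := by rw [h4]; group
  have h4 : pr Gs k * pr Gs k = 1 := by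
    rw [← hk2]
    calc h * t * h⁻¹ * (h * t * h⁻¹) = h * (t * t) * h⁻¹ := by group
      _ = 1 := by rw [h2]; group
  rcases inv_T hk h3 h4 with h5 | h5
  · left
    obtain ⟨w, hw⟩ := of_MA h5
    refine ⟨h⁻¹ * w, ?_⟩
    calc h⁻¹ * w * ia * (h⁻¹ * w)⁻¹ = h⁻¹ * (w * PresentedGroup.of Suz.Gen.a * w⁻¹) * h := by
          rw [ia]; group
      _ = t := by rw [hw, ← hk2]; group
  · right
    obtain ⟨w, hw⟩ := of_MB h5
    refine ⟨h⁻¹ * w, ?_⟩
    calc h⁻¹ * w * ie * (h⁻¹ * w)⁻¹ = h⁻¹ * (w * PresentedGroup.of Suz.Gen.e * w⁻¹) * h := by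
          rw [ie]; group
      _ = t := by rw [hw, ← hk2]; group

/-! ### Commuting conjugates of `a` -/

/-- the generators of `T` commute with `a` -/
theorem comm_gen {ts : List ℕ} {gs : List Suz} (h : List.Forall₂ R ts gs)
    (hc : allL (fun t => eqB (fun p => app t (app tA p)) (fun p => app tA (app t p))) ts = true) :
    ∀ g ∈ gs, g * ia = ia * g := by
  have ha : R tA ia := R_gen Suz.Gen.a
  induction h with
  | nil => intro g hg; exact absurd hg (by simp)
  | @cons t g ts gs h1 h2 ih =>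
    have h3 := allL_spec hc
    intro x hx
    rcases List.mem_cons.1 hx with rfl | hx
    · refine eq_of_eqB (f := fun p => app t (app tA p)) (g := fun p => app tA (app t p)) ?_ ?_
        (h3 t List.mem_cons_self)
      · intro p hp
        rw [map_mul, Equiv.Perm.mul_apply, (ha p hp).1, (h1 _ (ha p hp).2).1]
      · intro p hp
        rw [map_mul, Equiv.Perm.mul_apply, (h1 p hp).1, (ha _ (h1 p hp).2).1]
    · refine ih ?_ x hx
      have h' : and _ _ = true := hc
      rw [Bool.and_eq_true] at h'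
      exact h'.2

theorem T_le : T ≤ Subgroup.centralizer ({ia} : Set Suz) := by
  unfold T
  rw [Subgroup.closure_le]
  intro g hg
  rw [SetLike.mem_coe, Subgroup.mem_centralizer_singleton_iff]
  exact comm_gen R_Ts (by decide +kernel) g hg

/-- multiplication by `a` on the list of conjugates of `a` -/
noncomputable def chkC (x : ℕ) : Bool :=
  or (Nat.beq (ky x) 4096)
    (and (eqB (fun p => app tA (tev Ts (ky x) 0 p)) (fun p => tev Ts (Nat.xor (ky x) 4096) 0 p))
      (tb MA (Nat.xor (ky x) 4096)))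

theorem chkC_LA : allL chkC LA = true := by decide +kernel

theorem pr_4096 : pr Gs 4096 = ia := by
  refine eq_of_eqB (f := fun p => tev Ts 4096 0 p) (g := fun p => app tA p)
    (fun p hp => (tev_zero R_Ts _ p hp).1) (fun p hp => (R_gen Suz.Gen.a p hp).1) (by decide +kernel)

theorem mul_MA {k : ℕ} (h : tb MA k = true) (hk : k ≠ 4096) :
    ∃ w : Suz, w * ia * w⁻¹ = ia * pr Gs k := by
  have h' := h
  rw [tb_testBit, ← mask_LA] at h'
  obtain ⟨x, hx, rfl⟩ := mask_spec h'
  have h1 := allL_spec chkC_LA x hx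
  unfold chkC at h1
  rw [Bool.or_eq_true, Nat.beq_eq, Bool.and_eq_true] at h1
  rcases h1 with h1 | ⟨h1, h2⟩
  · exact absurd h1 hk
  · obtain ⟨w, hw⟩ := of_MA h2
    refine ⟨w, ?_⟩
    have h3 : ia * pr Gs (ky x) = pr Gs (Nat.xor (ky x) 4096) := by
      refine eq_of_eqB (f := fun p => app tA (tev Ts (ky x) 0 p))
        (g := fun p => tev Ts (Nat.xor (ky x) 4096) 0 p) ?_ ?_ h1
      · intro p hp
        rw [map_mul, Equiv.Perm.mul_apply, (tev_zero R_Ts _ p hp).1,
          (R_a _ (tev_zero R_Ts _ p hp).2).1]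
      · intro p hp
        exact (tev_zero R_Ts _ p hp).1
    rw [h3]
    exact hw

theorem aa : ia * ia = 1 := by
  refine eq_of_eqB (f := fun p => app tA (app tA p)) (g := fun p => p) ?_ ?_ (by decide +kernel)
  · intro p hp
    rw [map_mul, Equiv.Perm.mul_apply, (R_a p hp).1, (R_a _ (R_a p hp).2).1]
  · intro p _; rw [map_one]; rfl

theorem ee : ie * ie = 1 := by
  refine eq_of_eqB (f := fun p => app tE (app tE p)) (g := fun p => p) ?_ ?_ (by decide +kernel)
  · intro p hp
    rw [map_mul, Equiv.Perm.mul_apply, (R_e p hp).1, (R_e _ (R_e p hp).2).1]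
  · intro p _; rw [map_one]; rfl

theorem a_ne : ia ≠ 1 := by
  intro h
  have := eqB_of_eq (f := fun p => app tA p) (g := fun p => p) (fun p hp => (R_a p hp).1)
    (fun p _ => by rw [map_one]; rfl) h
  revert this
  decide +kernel

theorem e_ne : ie ≠ 1 := by
  intro h
  have := eqB_of_eq (f := fun p => app tE p) (g := fun p => p) (fun p hp => (R_e p hp).1)
    (fun p _ => by rw [map_one]; rfl) h
  revert this
  decide +kernel

/-- The product of two different commuting conjugates of `a` is conjugate to `a`. -/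
theorem comm (x y : Suz) (hx : ∃ g, g * ia * g⁻¹ = x) (hy : ∃ g, g * ia * g⁻¹ = y) (hxy : x ≠ y)
    (hc : x * y = y * x) : ∃ g, g * ia * g⁻¹ = x * y := by
  obtain ⟨g, rfl⟩ := hx
  obtain ⟨g', rfl⟩ := hy
  set y' := g⁻¹ * (g' * ia * g'⁻¹) * g with hy'
  have hyy : y' * y' = 1 := by
    calc y' * y' = g⁻¹ * g' * (ia * ia) * g'⁻¹ * g := by rw [hy']; group
      _ = 1 := by rw [aa]; group
  have hcom : y' * ia = ia * y' := by
    calc y' * ia = g⁻¹ * ((g' * ia * g'⁻¹) * (g * ia * g⁻¹)) * g := by rw [hy']; group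
      _ = g⁻¹ * ((g * ia * g⁻¹) * (g' * ia * g'⁻¹)) * g := by rw [hc]
      _ = ia * y' := by rw [hy']; group
  obtain ⟨h, hh, hT⟩ := conj_into TS (Subgroup.centralizer ({ia} : Set Suz))
    (by rw [coe_TS]; exact T_le) y' (Subgroup.mem_centralizer_singleton_iff.2 hcom) hyy
  rw [Subgroup.mem_centralizer_singleton_iff] at hh
  obtain ⟨k, hk, hk2⟩ := (mem_T _).1 hT
  have hyk : y' = h⁻¹ * pr Gs k * h := by rw [← hk2]; group
  have h3 : pr Gs k ≠ 1 := by
    rw [← hk2]
    intro h4
    apply a_ne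
    calc ia = (h * g⁻¹ * g')⁻¹ * (h * y' * h⁻¹) * (h * g⁻¹ * g') := by rw [hy']; group
      _ = 1 := by rw [h4]; group
  have h4 : pr Gs k * pr Gs k = 1 := by
    rw [← hk2]
    calc h * y' * h⁻¹ * (h * y' * h⁻¹) = h * (y' * y') * h⁻¹ := by group
      _ = 1 := by rw [hyy]; group
  have h5 : tb MA k = true := by
    rcases inv_T hk h3 h4 with h5 | h5
    · exact h5
    · exfalso
      obtain ⟨w, hw⟩ := of_MB h5
      refine not_conj (w⁻¹ * h * g⁻¹ * g') ?_
      calc w⁻¹ * h * g⁻¹ * g' * ia * (w⁻¹ * h * g⁻¹ * g')⁻¹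
          = w⁻¹ * (h * y' * h⁻¹) * w := by rw [hy']; group
        _ = w⁻¹ * (w * PresentedGroup.of Suz.Gen.e * w⁻¹) * w := by rw [hk2, hw]
        _ = ie := by rw [ie]; group
  have h6 : k ≠ 4096 := by
    rintro rfl
    apply hxy
    rw [pr_4096] at hyk
    have h7 : y' = ia := by
      rw [hyk]
      calc h⁻¹ * ia * h = h⁻¹ * (ia * h) := by group
        _ = h⁻¹ * (h * ia) := by rw [hh]
        _ = ia := by group
    calc g * ia * g⁻¹ = g * y' * g⁻¹ := by rw [h7]
      _ = g' * ia * g'⁻¹ := by rw [hy']; group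
  obtain ⟨w, hw⟩ := mul_MA h5 h6
  refine ⟨g * h⁻¹ * w, ?_⟩
  have h8 : h⁻¹ * ia * h = ia := by
    calc h⁻¹ * ia * h = h⁻¹ * (ia * h) := by group
      _ = h⁻¹ * (h * ia) := by rw [hh]
      _ = ia := by group
  calc g * h⁻¹ * w * ia * (g * h⁻¹ * w)⁻¹ = g * (h⁻¹ * (w * ia * w⁻¹) * h) * g⁻¹ := by group
    _ = g * ((h⁻¹ * ia * h) * (h⁻¹ * pr Gs k * h)) * g⁻¹ := by rw [hw]; group
    _ = g * (ia * y') * g⁻¹ := by rw [h8, ← hyk]
    _ = _ := by rw [hy']; group

/-! ### An element of order 7 centralising `e` -/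

/-- `b c f g` -/
noncomputable def u7 : Suz := el [.b, .c, .f, .g]

theorem el_append (v w : List Suz.Gen) : el (v ++ w) = el v * el w := by
  unfold el; rw [List.map_append, List.prod_append]

theorem u7_pow : u7 ^ 7 = 1 := by
  have h : u7 ^ 7 = el [.b, .c, .f, .g, .b, .c, .f, .g, .b, .c, .f, .g, .b, .c, .f, .g, .b, .c, .f, .g,
      .b, .c, .f, .g, .b, .c, .f, .g] := by
    unfold u7 el
    simp only [List.map_cons, List.map_nil, List.prod_cons, List.prod_nil, mul_one]
    simp only [pow_succ, pow_zero, one_mul, mul_assoc]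
  rw [h]
  exact eq_of_eqB (f := wtr _) (g := fun p => p) (fun p hp => (wtr_spec _ p hp).1)
    (fun p _ => by rw [map_one]; rfl) (by decide +kernel)

theorem u7_ne : u7 ≠ 1 := by
  intro h
  have := eqB_of_eq (f := wtr [.b, .c, .f, .g]) (g := fun p => p)
    (fun p hp => (wtr_spec _ p hp).1) (fun p _ => by rw [map_one]; rfl) h
  revert this
  decide +kernel

theorem orderOf_u7 : orderOf u7 = 7 := by
  have : Fact (Nat.Prime 7) := ⟨by norm_num⟩
  exact orderOf_eq_prime u7_pow u7_ne

theorem u7_comm : u7 * ie = ie * u7 := by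
  refine eq_of_eqB (f := fun p => wtr [.b, .c, .f, .g] (app tE p))
    (g := fun p => app tE (wtr [.b, .c, .f, .g] p)) ?_ ?_ (by decide +kernel)
  · intro p hp
    rw [map_mul, Equiv.Perm.mul_apply, (R_e p hp).1]
    exact (wtr_spec _ _ (R_e p hp).2).1
  · intro p hp
    rw [map_mul, Equiv.Perm.mul_apply]
    have := wtr_spec [.b, .c, .f, .g] p hp
    rw [← (R_e _ this.2).1, ← this.1]
    rfl

end Cfsg.Agent.SporRec.SuzCl
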