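import Mathlib

/-!
# Products over a list of involutory polycyclic generators

`pr l k` is the product of the entries of `l` selected by the bits of `k`.  If every entry of `l`
is an involution (or trivial) normalising the subgroup generated by the following entries, the
closure of `l` consists of the elements `pr l k`.
-/

set_option autoImplicit false

namespace Cfsg.Agent.SporRec.SuzCl

variable {M : Type*} [Group M]

/-- the product of the entries of a list selected by the bits of a number -/
def pr : List M → ℕ → M
  | [], _ => 1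
  | g :: l, k => (if k % 2 = 1 then g else 1) * pr l (k / 2)

theorem pr_nil (k : ℕ) : pr ([] : List M) k = 1 := rfl

theorem pr_cons (g : M) (l : List M) (k : ℕ) :
    pr (g :: l) k = (if k % 2 = 1 then g else 1) * pr l (k / 2) := rfl

theorem pr_even (g : M) (l : List M) (k : ℕ) : pr (g :: l) (2 * k) = pr l k := by
  rw [pr_cons, if_neg (by omega), one_mul, Nat.mul_div_cancel_left _ (by norm_num)]

theorem pr_odd (g : M) (l : List M) (k : ℕ) : pr (g :: l) (2 * k + 1) = g * pr l k := by
  rw [pr_cons, if_pos (by omega)]
  congr 2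
  omega

/-- involutory polycyclic sequences -/
def PC : List M → Prop
  | [] => True
  | g :: l => g * g = 1 ∧ (∀ h ∈ l, g * h * g⁻¹ ∈ Subgroup.closure {x | x ∈ l}) ∧ PC l

theorem pr_mem (l : List M) : ∀ k, pr l k ∈ Subgroup.closure {x | x ∈ l} := by
  induction l with
  | nil => intro k; exact Subgroup.one_mem _
  | cons g l ih =>
    intro k
    have hle : Subgroup.closure {x | x ∈ l} ≤ Subgroup.closure {x | x ∈ g :: l} :=
      Subgroup.closure_mono (fun x hx => List.mem_cons_of_mem _ hx)
    rw [pr_cons]
    refine Subgroup.mul_mem _ ?_ (hle (ih _))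
    split_ifs
    · exact Subgroup.subset_closure List.mem_cons_self
    · exact Subgroup.one_mem _

theorem conj_mem {g : M} {l : List M} (h : ∀ h ∈ l, g * h * g⁻¹ ∈ Subgroup.closure {x | x ∈ l})
    {n : M} (hn : n ∈ Subgroup.closure {x | x ∈ l}) : g * n * g⁻¹ ∈ Subgroup.closure {x | x ∈ l} := by
  induction hn using Subgroup.closure_induction with
  | mem x hx => exact h x hx
  | one => rw [mul_one, mul_inv_cancel]; exact Subgroup.one_mem _
  | mul a b _ _ ha hb =>
    have : g * (a * b) * g⁻¹ = (g * a * g⁻¹) * (g * b * g⁻¹) := by group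
    rw [this]; exact Subgroup.mul_mem _ ha hb
  | inv a _ ha =>
    have : g * a⁻¹ * g⁻¹ = (g * a * g⁻¹)⁻¹ := by group
    rw [this]; exact Subgroup.inv_mem _ ha

theorem mem_cons_iff {g : M} {l : List M} (h : PC (g :: l)) (x : M) :
    x ∈ Subgroup.closure {x | x ∈ g :: l} ↔
      (x ∈ Subgroup.closure {x | x ∈ l} ∨ g * x ∈ Subgroup.closure {x | x ∈ l}) := by
  obtain ⟨hgg, hn, -⟩ := h
  have hgi : g⁻¹ = g := inv_eq_of_mul_eq_one_left hgg
  set N := Subgroup.closure {x | x ∈ l} with hN
  have hc : ∀ n ∈ N, g * n * g ∈ N := by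
    intro n hn'
    have := conj_mem hn hn'
    rwa [hgi] at this
  let N' : Subgroup M :=
    { carrier := {x | x ∈ N ∨ g * x ∈ N}
      one_mem' := Or.inl N.one_mem
      mul_mem' := by
        rintro x y (hx | hx) (hy | hy)
        · exact Or.inl (N.mul_mem hx hy)
        · refine Or.inr ?_
          have : g * (x * y) = (g * x * g) * (g * y) := by
            calc g * (x * y) = g * x * (1 : M) * y := by group
              _ = (g * x * g) * (g * y) := by rw [← hgg]; group
          rw [this]
          exact N.mul_mem (hc x hx) hy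
        · refine Or.inr ?_
          rw [← mul_assoc]
          exact N.mul_mem hx hy
        · refine Or.inl ?_
          have : x * y = (g * (g * x) * g) * (g * y) := by
            calc x * y = (1 : M) * x * (1 : M) * y := by group
              _ = (g * g) * x * (g * g) * y := by rw [hgg]
              _ = _ := by group
          rw [this]
          exact N.mul_mem (hc _ hx) hy
      inv_mem' := by
        rintro x (hx | hx)
        · exact Or.inl (N.inv_mem hx)
        · refine Or.inr ?_
          have h1 := hc _ (N.inv_mem hx)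
          rw [mul_inv_rev, hgi] at h1
          have : g * (x⁻¹ * g) * g = g * x⁻¹ := by
            calc g * (x⁻¹ * g) * g = g * x⁻¹ * (g * g) := by group
              _ = g * x⁻¹ := by rw [hgg, mul_one]
          rwa [this] at h1 }
  constructor
  · intro hx
    have : Subgroup.closure {x | x ∈ g :: l} ≤ N' := by
      rw [Subgroup.closure_le]
      intro y hy
      rcases List.mem_cons.1 hy with rfl | hy
      · exact Or.inr (by rw [hgg]; exact N.one_mem)
      · exact Or.inl (Subgroup.subset_closure hy)
    exact this hx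
  · intro hx
    have hle : N ≤ Subgroup.closure {x | x ∈ g :: l} :=
      Subgroup.closure_mono (fun x hx => List.mem_cons_of_mem _ hx)
    rcases hx with hx | hx
    · exact hle hx
    · have hg : g ∈ Subgroup.closure {x | x ∈ g :: l} := Subgroup.subset_closure List.mem_cons_self
      have := Subgroup.mul_mem _ hg (hle hx)
      rwa [← mul_assoc, hgg, one_mul] at this

theorem exists_pr : ∀ (l : List M), PC l → ∀ x ∈ Subgroup.closure {x | x ∈ l},
    ∃ k < 2 ^ l.length, x = pr l k := by
  intro l
  induction l with
  | nil =>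
    intro _ x hx
    refine ⟨0, by simp, ?_⟩
    have : {x : M | x ∈ ([] : List M)} = ∅ := by ext; simp
    rw [this, Subgroup.closure_empty, Subgroup.mem_bot] at hx
    rw [hx]; rfl
  | cons g l ih =>
    intro h x hx
    have h2 := (mem_cons_iff h x).1 hx
    obtain ⟨hgg, -, hl⟩ := h
    rcases h2 with h2 | h2
    · obtain ⟨k, hk, rfl⟩ := ih hl x h2
      refine ⟨2 * k, ?_, (pr_even g l k).symm⟩
      rw [List.length_cons, pow_succ]; omega
    · obtain ⟨k, hk, hx'⟩ := ih hl _ h2
      refine ⟨2 * k + 1, ?_, ?_⟩
      · rw [List.length_cons, pow_succ]; omega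
      · rw [pr_odd, ← hx', ← mul_assoc, hgg, one_mul]

theorem pr_inj : ∀ (l : List M), PC l → (∀ k < 2 ^ l.length, pr l k = 1 → k = 0) →
    ∀ k < 2 ^ l.length, ∀ k' < 2 ^ l.length, pr l k = pr l k' → k = k' := by
  intro l
  induction l with
  | nil =>
    intro _ _ k hk k' hk' _
    simp at hk hk'
    omega
  | cons g l ih =>
    intro h h1 k hk k' hk' he
    have hlen : (2 : ℕ) ^ (g :: l).length = 2 * 2 ^ l.length := by
      rw [List.length_cons, pow_succ]; ring
    rw [hlen] at hk hk' h1
    have hl : PC l := h.2.2
    have hone : ∀ k < 2 ^ l.length, pr l k = 1 → k = 0 := by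
      intro k hk h2
      have := h1 (2 * k) (by omega) (by rw [pr_even]; exact h2)
      omega
    have hng : g ∉ Subgroup.closure {x | x ∈ l} := by
      intro hg
      obtain ⟨m, hm, hgm⟩ := exists_pr l hl _ (Subgroup.inv_mem _ hg)
      have := h1 (2 * m + 1) (by omega) (by rw [pr_odd, ← hgm, mul_inv_cancel])
      omega
    rw [pr_cons, pr_cons] at he
    by_cases hb : k % 2 = 1 <;> by_cases hb' : k' % 2 = 1
    · rw [if_pos hb, if_pos hb'] at he
      have := ih hl hone _ (by omega) _ (by omega) (mul_left_cancel he)
      omega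
    · exfalso
      rw [if_pos hb, if_neg hb', one_mul] at he
      apply hng
      have : g = pr l (k' / 2) * (pr l (k / 2))⁻¹ := by rw [← he]; group
      rw [this]
      exact Subgroup.mul_mem _ (pr_mem _ _) (Subgroup.inv_mem _ (pr_mem _ _))
    · exfalso
      rw [if_neg hb, if_pos hb', one_mul] at he
      apply hng
      have : g = pr l (k / 2) * (pr l (k' / 2))⁻¹ := by rw [he]; group
      rw [this]
      exact Subgroup.mul_mem _ (pr_mem _ _) (Subgroup.inv_mem _ (pr_mem _ _))
    · rw [if_neg hb, if_neg hb', one_mul, one_mul] at he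
      have := ih hl hone _ (by omega) _ (by omega) he
      omega

theorem card_closure (l : List M) (h : PC l) (h1 : ∀ k < 2 ^ l.length, pr l k = 1 → k = 0) :
    Nat.card (Subgroup.closure {x : M | x ∈ l}) = 2 ^ l.length := by
  have : Nat.card (Fin (2 ^ l.length)) = 2 ^ l.length := by simp
  rw [← this]
  symm
  refine Nat.card_congr (Equiv.ofBijective (fun k => ⟨pr l k, pr_mem l k⟩) ⟨?_, ?_⟩)
  · intro k k' hkk
    exact Fin.ext (pr_inj l h h1 k k.2 k' k'.2 (congrArg Subtype.val hkk))
  · rintro ⟨x, hx⟩
    obtain ⟨k, hk, rfl⟩ := exists_pr l h x hx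
    exact ⟨⟨k, hk⟩, rfl⟩

end Cfsg.Agent.SporRec.SuzCl
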